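import Groth.Agent.IdealMulLib.Sub
import Groth.Agent.ExtShLib.Depth
import Groth.Agent.QCohLib.FiniteType
import Groth.Agent.QCohLib.Coherent
import Mathlib.RingTheory.Finiteness.Ideal

/-!
# Maps vanishing off the zero locus of an ideal
-/

set_option autoImplicit false
set_option backward.isDefEq.respectTransparency false
universe u

open CategoryTheory AlgebraicGeometry

namespace Groth.Agent.IdealMulLib

theorem exists_pow_app_eq_zero {X : Scheme.{u}} [IsLocallyNoetherian X] {A F : X.Modules} [Coh.IsQCoh F] (hA : Coh.IsCoh A)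
    (I : X.IdealSheafData) (U : X.Opens) (hU : (U : Set X) = (I.support : Set X)ᶜ) (ψ : A ⟶ F)
    (hψ : (Scheme.Modules.restrictFunctor U.ι).map ψ = 0) {W : X.Opens} (hW : IsAffineOpen W) :
    ∃ k : ℕ, ∀ s ∈ I.ideal ⟨W, hW⟩ ^ k • (⊤ : Submodule Γ(X, W) Γ(A, W)), ψ.app W s = 0 := by
  haveI : IsNoetherianRing Γ(X, W) := IsLocallyNoetherian.component_noetherian ⟨W, hW⟩
  haveI : Module.Finite Γ(X, W) Γ(A, W) := Groth.Agent.QCohLib.finite_sections_of_isCoh hA hW
  let φ := Groth.Agent.QCohLib.appLinear ψ W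
  let J : Ideal Γ(X, W) := (LinearMap.range φ).annihilator
  obtain ⟨g, hg⟩ := Module.Finite.fg_top (R := Γ(X, W)) (M := Γ(A, W))
  have hrad : I.ideal ⟨W, hW⟩ ≤ J.radical := by
    intro a ha
    have key : ∀ s : Γ(A, W), ∃ m : ℕ, a ^ m • φ s = 0 := fun s => by
      obtain ⟨m, hm⟩ := Groth.Agent.QCohLib.exists_pow_zero_of_isCompact F hW.isCompact a (ψ.app W s) (by
        refine TopCat.Presheaf.section_ext ⟨_, Scheme.Modules.isSheaf _⟩ (X.basicOpen a) _ _ fun y hy => ?_
        refine Eq.trans ?_ (map_zero (F.presheaf.germ (X.basicOpen a) y hy).hom).symm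
        refine (TopCat.Presheaf.germ_res_apply F.presheaf (homOfLE (X.basicOpen_le a)) y hy (ψ.app W s)).trans ?_
        rw [← Groth.Agent.PullbackMod.stalkLin_germ]
        have hyU : y ∈ U := by
          show y ∈ (U : Set X)
          rw [hU]
          intro hc
          have hz := (Scheme.IdealSheafData.mem_support_iff_of_mem (U := ⟨W, hW⟩) (X.basicOpen_le a hy)).1 hc
          rw [Scheme.mem_zeroLocus_iff] at hz
          exact hz a ha hy
        rw [(Groth.Agent.ExtShLib.restrict_map_eq_zero_iff U ψ).1 hψ y hyU]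
        rfl)
      exact ⟨m, by rwa [Groth.Agent.QCohLib.sc_le_rfl] at hm⟩
    choose m hm using key
    refine ⟨g.sup m, ?_⟩
    have h0 : ∀ s : Γ(A, W), a ^ g.sup m • φ s = 0 := by
      suffices (⊤ : Submodule Γ(X, W) Γ(A, W)) ≤ LinearMap.ker (a ^ g.sup m • φ) from fun s => this Submodule.mem_top
      rw [← hg, Submodule.span_le]
      intro s hs
      obtain ⟨e, he⟩ := Nat.exists_eq_add_of_le (Finset.le_sup (f := m) hs)
      show a ^ g.sup m • φ s = 0
      rw [he, add_comm, pow_add, mul_smul, hm, smul_zero]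
    rw [Submodule.mem_annihilator]
    rintro _ ⟨s, rfl⟩
    exact h0 s
  obtain ⟨k, hk⟩ := Ideal.exists_pow_le_of_le_radical_of_fg hrad (IsNoetherian.noetherian _)
  refine ⟨k, fun s hs => ?_⟩
  show φ s = 0
  refine Submodule.smul_induction_on hs (fun b hb x _ => ?_) fun p q hp hq => by rw [map_add, hp, hq, add_zero]
  rw [map_smul]
  exact Submodule.mem_annihilator.1 (hk hb) _ ⟨x, rfl⟩

end Groth.Agent.IdealMulLib
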