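import Groth.Agent.QCohLib.Exact
import Groth.Agent.FlatLocus.ModInjFlat
import Groth.Agent.DCohLib.ClosedPush
import Groth.Agent.DCohLib.PullKFlat
import Groth.Agent.IdealStalkLib.Cartier
import Groth.Prelude.Def_Dual3

/-!
# The stalks of `I · F`
-/

set_option autoImplicit false
set_option backward.isDefEq.respectTransparency false
set_option linter.style.haveILetI false
universe u

open CategoryTheory Limits Opposite TopologicalSpace AlgebraicGeometry
open Groth.Agent.PullbackMod Groth.Agent.DCohLib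

noncomputable section

namespace Groth.Agent.IdealMulLib

variable {X : Scheme.{u}}

theorem range_stalk_kernel {M N : X.Modules} (φ : M ⟶ N) (y : X) :
    LinearMap.range (stalkLin (kernel.ι φ) y) = LinearMap.ker (stalkLin φ y) := by
  refine le_antisymm ?_ fun z hz => ?_
  · rintro _ ⟨w, rfl⟩
    rw [LinearMap.mem_ker, ← LinearMap.comp_apply, ← stalkLin_comp, kernel.condition,
      (eq_zero_iff_stalk (0 : kernel φ ⟶ N)).mp rfl y]
    rfl
  · obtain ⟨U, hy, s, rfl⟩ := TopCat.Presheaf.exists_germ_eq M.presheaf z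
    rw [LinearMap.mem_ker, stalkLin_germ] at hz
    rw [← map_zero (N.presheaf.germ U y hy).hom] at hz
    obtain ⟨V, hyV, iU, iU', heq⟩ := TopCat.Presheaf.germ_eq N.presheaf y hy hy _ _ hz
    obtain ⟨t, ht⟩ := QCohLib.kernel_app_exact φ V (M.presheaf.map iU.op s) (by
      rw [map_zero] at heq
      exact (ConcreteCategory.congr_hom (φ.mapPresheaf.naturality iU.op) s).trans heq)
    exact ⟨(kernel φ).presheaf.germ V y hyV t, (stalkLin_germ _ y hyV t).trans
      ((congrArg _ ht).trans (TopCat.Presheaf.germ_res_apply M.presheaf iU y hyV s))⟩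

theorem stalkIdeal_eq_top (I : X.IdealSheafData) {y : X} (hy : y ∉ I.support) :
    IntMult.stalkIdeal I y = ⊤ := by
  obtain ⟨U, hyU, hU⟩ := IdealStalkLib.exists_unit_nhd I hy
  rw [IdealStalkLib.stalkIdeal_eq I U y hyU, hU, Ideal.map_top]

theorem tmul_one_eq_zero_iff {A B T : Type u} [CommRing A] [CommRing B] [Algebra A B] [AddCommGroup T] [Module A T]
    (hs : Function.Surjective (algebraMap A B)) (t : T) :
    (1 : B) ⊗ₜ[A] t = 0 ↔ t ∈ RingHom.ker (algebraMap A B) • (⊤ : Submodule A T) := by
  let e : (A ⧸ RingHom.ker (algebraMap A B)) ≃ₐ[A] B :=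
    Ideal.quotientKerAlgEquivOfSurjective (f := Algebra.ofId A B) hs
  let q := (TensorProduct.congr e.toLinearEquiv (LinearEquiv.refl A T)).symm.trans
    (TensorProduct.quotTensorEquivQuotSMul T (RingHom.ker (algebraMap A B)))
  have h : q ((1 : B) ⊗ₜ[A] t) = Submodule.Quotient.mk t := by
    have h1 : e.toLinearEquiv.symm 1 = Ideal.Quotient.mk _ 1 := map_one e.symm
    simp only [q, LinearEquiv.trans_apply, TensorProduct.congr_symm_tmul, LinearEquiv.refl_symm,
      LinearEquiv.refl_apply]
    rw [h1, TensorProduct.quotTensorEquivQuotSMul_mk_tmul, one_smul]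
  rw [← q.map_eq_zero_iff, h, Submodule.Quotient.mk_eq_zero]

/-- The stalk of `I · F` inside the stalk of `F` is `I_y F_y`. -/
theorem range_stalk_idealMulι (I : X.IdealSheafData) (F : X.Modules) (y : X) :
    LinearMap.range (stalkLin (Dual3.idealMulι I F) y) =
      IntMult.stalkIdeal I y • (⊤ : Submodule (X.presheaf.stalk y) (F.presheaf.stalk y)) := by
  refine (range_stalk_kernel _ y).trans ?_
  let i := I.subschemeι
  by_cases hy : y ∈ Set.range i
  · obtain ⟨x, rfl⟩ := hy
    letI : Algebra (X.presheaf.stalk (i x)) (I.subscheme.presheaf.stalk x) := (i.stalkMap x).hom.toAlgebra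
    have hk : RingHom.ker (algebraMap (X.presheaf.stalk (i x)) (I.subscheme.presheaf.stalk x)) =
        IntMult.stalkIdeal I (i x) := IdealStalkLib.ker_stalkMap_subschemeι I x
    ext z
    rw [LinearMap.mem_ker, ← hk, ← tmul_one_eq_zero_iff (i.stalkMap_surjective x) z]
    let b := bijective_pushStalk i ((Scheme.Modules.pullback i).obj F) x
    have h2 : pullStalk i F x z = pullStalkEquiv i x F ((1 : I.subscheme.presheaf.stalk x) ⊗ₜ z) :=
      ((pullStalkEquiv_tmul i x F 1 z).trans (one_smul _ _)).symm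
    constructor
    · intro h
      refine (pullStalkEquiv i x F).injective ?_
      rw [← h2, map_zero, ← unit_stalk_pushStalk i F x z]
      exact (congrArg (pushStalk i _ x) h).trans (map_zero _)
    · intro h
      refine b.1 ?_
      refine (unit_stalk_pushStalk i F x z).trans ?_
      rw [h2, h, map_zero, map_zero]
  · haveI := subsingleton_stalk_pushforward i ((Scheme.Modules.pullback i).obj F) y hy
    rw [stalkIdeal_eq_top I (fun h => hy (by rw [Scheme.IdealSheafData.range_subschemeι]; exact h)),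
      Submodule.top_smul, LinearMap.ker_eq_top]
    exact LinearMap.ext fun z => @Subsingleton.elim _ (subsingleton_stalk_pushforward i ((Scheme.Modules.pullback i).obj F) y hy) _ _

theorem mem_range_idealMulι_iff (I : X.IdealSheafData) (F : X.Modules) (y : X) (z : F.presheaf.stalk y) :
    (∃ w, stalkLin (Dual3.idealMulι I F) y w = z) ↔
      z ∈ IntMult.stalkIdeal I y • (⊤ : Submodule (X.presheaf.stalk y) (F.presheaf.stalk y)) := by
  rw [← range_stalk_idealMulι I F y]
  rfl

/-- On an affine open the sections of `I · F` are `I(W) F(W)`. -/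
theorem range_app_idealMulι (I : X.IdealSheafData) (F : X.Modules) [Coh.IsQCoh F] {W : X.Opens}
    (hW : IsAffineOpen W) (s : Γ(F, W)) :
    (∃ t, (Dual3.idealMulι I F).app W t = s) ↔
      s ∈ I.ideal ⟨W, hW⟩ • (⊤ : Submodule Γ(X, W) Γ(F, W)) := by
  have hJ : ∀ (y : X) (hy : y ∈ W),
      IntMult.stalkIdeal I y = (I.ideal ⟨W, hW⟩).map (X.presheaf.germ W y hy).hom :=
    fun y hy => IdealStalkLib.stalkIdeal_eq I ⟨W, hW⟩ y hy
  constructor
  · rintro ⟨t, rfl⟩
    let N := I.ideal ⟨W, hW⟩ • (⊤ : Submodule Γ(X, W) Γ(F, W))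
    let C : Ideal Γ(X, W) := N.comap (LinearMap.toSpanSingleton Γ(X, W) _ ((Dual3.idealMulι I F).app W t))
    suffices h : C = ⊤ by
      have h1 : (1 : Γ(X, W)) ∈ C := h ▸ Submodule.mem_top
      simpa [C] using h1
    by_contra hC
    obtain ⟨P, hP, hCP⟩ := C.exists_le_maximal hC
    let y : X := hW.fromSpec ⟨P, hP.isPrime⟩
    have hy : y ∈ W := hW.range_fromSpec.le ⟨_, rfl⟩
    have hPy : (hW.primeIdealOf ⟨y, hy⟩).asIdeal = P := by
      rw [show hW.primeIdealOf ⟨y, hy⟩ = (⟨P, hP.isPrime⟩ : PrimeSpectrum Γ(X, W)) from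
        hW.fromSpec.isOpenEmbedding.injective (hW.fromSpec_primeIdealOf ⟨y, hy⟩)]
    letI := Module.compHom (F.presheaf.stalk y) (X.presheaf.germ W y hy).hom
    letI : Algebra Γ(X, W) (X.presheaf.stalk y) := (X.presheaf.germ W y hy).hom.toAlgebra
    haveI : IsScalarTower Γ(X, W) (X.presheaf.stalk y) (F.presheaf.stalk y) :=
      IsScalarTower.of_algebraMap_smul fun _ _ => rfl
    haveI := FlatLocus.isLocalizedModule_germL F hW y hy
    let f := FlatLocus.germL F W y hy
    let S := (hW.primeIdealOf ⟨y, hy⟩).asIdeal.primeCompl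
    have hs : f ((Dual3.idealMulι I F).app W t) ∈
        IntMult.stalkIdeal I y • (⊤ : Submodule (X.presheaf.stalk y) (F.presheaf.stalk y)) :=
      (mem_range_idealMulι_iff I F y _).1 ⟨_, stalkLin_germ _ y hy t⟩
    have hall : ∀ z ∈ IntMult.stalkIdeal I y • (⊤ : Submodule (X.presheaf.stalk y) (F.presheaf.stalk y)),
        z ∈ N.localized₀ S f := by
      rw [hJ y hy]
      intro z hz
      refine Submodule.smul_induction_on hz (fun a' ha' w _ => ?_) fun p q hp hq => add_mem hp hq
      induction ha' using Submodule.span_induction generalizing w with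
      | mem x hx =>
        obtain ⟨a, ha, rfl⟩ := hx
        obtain ⟨⟨m, r⟩, hm⟩ := IsLocalizedModule.surj S f w
        refine ⟨a • m, Submodule.smul_mem_smul ha Submodule.mem_top, r, ?_⟩
        rw [IsLocalizedModule.mk'_eq_iff, map_smul, ← hm]
        exact smul_comm a r w
      | zero => rw [zero_smul]; exact zero_mem _
      | add x x' _ _ hx hx' => rw [add_smul]; exact add_mem (hx w trivial) (hx' w trivial)
      | smul c x _ hx => rw [smul_eq_mul, mul_comm, mul_smul]; exact hx _ trivial
    obtain ⟨n, hn, r, hr⟩ := hall _ hs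
    rw [IsLocalizedModule.mk'_eq_iff] at hr
    obtain ⟨r', hr'⟩ := IsLocalizedModule.exists_of_eq (S := S) (f := f)
      (hr.trans (map_smul f (r : Γ(X, W)) _).symm)
    have hmem : ((r' : Γ(X, W)) * (r : Γ(X, W))) ∈ C := by
      show ((r' : Γ(X, W)) * (r : Γ(X, W))) • (Dual3.idealMulι I F).app W t ∈ N
      rw [mul_smul, ← Submonoid.smul_def, ← hr']
      exact N.smul_mem _ hn
    have h5 := hCP hmem
    rcases hP.isPrime.mem_or_mem h5 with h6 | h6
    · exact r'.2 (hPy ▸ h6)
    · exact r.2 (hPy ▸ h6)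
  · intro hs
    refine Submodule.smul_induction_on hs (fun a ha m _ => ?_) ?_
    · suffices h : ((Scheme.Modules.pullbackPushforwardAdjunction I.subschemeι).unit.app F).app W (a • m) = 0 from
        QCohLib.kernel_app_exact _ W _ h
      refine TopCat.Presheaf.section_ext ⟨_, Scheme.Modules.isSheaf _⟩ W _ _ fun y hy => ?_
      refine Eq.trans ?_ (map_zero _).symm
      refine (stalkLin_germ _ y hy _).symm.trans ?_
      have h1 : F.presheaf.germ W y hy (a • m) ∈
          IntMult.stalkIdeal I y • (⊤ : Submodule (X.presheaf.stalk y) (F.presheaf.stalk y)) := by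
        rw [hJ y hy, show F.presheaf.germ W y hy (a • m) = X.presheaf.germ W y hy a • F.presheaf.germ W y hy m from
          PresheafOfModules.germ_smul (R := X.presheaf) F.val y W hy a m]
        exact Submodule.smul_mem_smul (Ideal.mem_map_of_mem _ ha) Submodule.mem_top
      rw [← range_stalk_idealMulι I F y, LinearMap.mem_range] at h1
      obtain ⟨w, hw⟩ := h1
      refine (congrArg _ hw.symm).trans ?_
      refine Eq.trans (LinearMap.congr_fun (stalkLin_comp (Dual3.idealMulι I F) _ y) w).symm ?_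
      rw [show Dual3.idealMulι I F ≫ _ = 0 from kernel.condition _,
        (eq_zero_iff_stalk (0 : (Dual3.idealMul I).obj F ⟶ _)).mp rfl y]
      rfl
    · rintro p q ⟨u, rfl⟩ ⟨v, rfl⟩
      exact ⟨u + v, map_add _ _ _⟩

/-- Two submodules with the same sections on affine opens are equal. -/
theorem exists_iso_of_app_range {A B M : X.Modules} (a : A ⟶ M) (b : B ⟶ M) [Mono a] [Mono b]
    (h : ∀ W : X.Opens, IsAffineOpen W → ∀ s : Γ(M, W), (∃ t, a.app W t = s) ↔ (∃ t, b.app W t = s)) :
    ∃ e : A ≅ B, e.hom ≫ b = a := by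
  have key : ∀ {A B : X.Modules} (a : A ⟶ M) (b : B ⟶ M),
      (∀ W : X.Opens, IsAffineOpen W → ∀ s : Γ(M, W), (∃ t, a.app W t = s) → (∃ t, b.app W t = s)) →
        a ≫ cokernel.π b = 0 := by
    intro A B a b h
    refine (eq_zero_iff_stalk _).2 fun y => LinearMap.ext fun z => ?_
    obtain ⟨U, hy, t, rfl⟩ := TopCat.Presheaf.exists_germ_eq A.presheaf z
    obtain ⟨_, ⟨W : X.Opens, hW, rfl⟩, hyW, hWU⟩ := X.isBasis_affineOpens.exists_subset_of_mem_open hy U.2
    rw [← TopCat.Presheaf.germ_res_apply A.presheaf (homOfLE hWU) y hyW t, stalkLin_germ]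
    obtain ⟨t', ht'⟩ := h W hW _ ⟨A.presheaf.map (homOfLE hWU).op t, rfl⟩
    show (cokernel b).presheaf.germ W y hyW ((cokernel.π b).app W (a.app W _)) = 0
    refine (congrArg (fun q => (cokernel b).presheaf.germ W y hyW ((cokernel.π b).app W q)) ht'.symm).trans ?_
    show (cokernel b).presheaf.germ W y hyW ((b ≫ cokernel.π b).app W t') = 0
    rw [cokernel.condition]
    exact map_zero _
  let u := Abelian.monoLift b a (key a b fun W hW s hs => (h W hW s).1 hs)
  let v := Abelian.monoLift a b (key b a fun W hW s hs => (h W hW s).2 hs)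
  refine ⟨⟨u, v, ?_, ?_⟩, Abelian.monoLift_comp _ _ _⟩
  · rw [← cancel_mono a, Category.assoc, Abelian.monoLift_comp, Abelian.monoLift_comp, Category.id_comp]
  · rw [← cancel_mono b, Category.assoc, Abelian.monoLift_comp, Abelian.monoLift_comp, Category.id_comp]

end Groth.Agent.IdealMulLib
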