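import Groth.Agent.IdealMulLib.Basic
import Groth.Agent.QCohLib.Push
import Groth.Agent.PullbackMod.Sections
import Groth.Agent.DCohLib.QCohAbelian
import Mathlib.CategoryTheory.Subobject.Lattice

/-!
# Intersections of quasi-coherent submodules
-/

set_option autoImplicit false
set_option backward.isDefEq.respectTransparency false
set_option linter.style.haveILetI false
universe u

open CategoryTheory Limits Opposite TopologicalSpace AlgebraicGeometry
open Groth.Agent.PullbackMod Groth.Agent.DCohLib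

noncomputable section

namespace Groth.Agent.IdealMulLib

variable {X : Scheme.{u}} {M : X.Modules}

theorem isQCoh_idealMul (I : X.IdealSheafData) (F : X.Modules) [Coh.IsQCoh F] :
    Coh.IsQCoh ((Dual3.idealMul I).obj F) :=
  haveI : Coh.IsQCoh ((Scheme.Modules.pullback I.subschemeι).obj F) := PullbackMod.isQCoh_pullback I.subschemeι F
  (QCohLib.isQCoh_image _ ‹_›
    (QCohLib.isQCoh_pushforward ((Scheme.Modules.pullback I.subschemeι).obj F) I.subschemeι)).1

theorem app_range_mk {A : X.Modules} (a : A ⟶ M) [Mono a] (W : X.Opens) (s : Γ(M, W)) :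
    (∃ t, (Subobject.mk a).arrow.app W t = s) ↔ (∃ t, a.app W t = s) := by
  constructor
  · rintro ⟨t, rfl⟩
    exact ⟨(Subobject.underlyingIso a).hom.app W t,
      ConcreteCategory.congr_hom (congrArg (fun f => Scheme.Modules.Hom.app f W) (Subobject.underlyingIso_hom_comp_eq_mk a)) t⟩
  · rintro ⟨t, rfl⟩
    exact ⟨(Subobject.underlyingIso a).inv.app W t,
      ConcreteCategory.congr_hom (congrArg (fun f => Scheme.Modules.Hom.app f W) (Subobject.underlyingIso_arrow a)) t⟩

/-- The map whose kernel is the intersection. -/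
abbrev infMap (P Q : Subobject M) : M ⟶ cokernel P.arrow ⊞ cokernel Q.arrow :=
  biprod.lift (cokernel.π P.arrow) (cokernel.π Q.arrow)

theorem inf_eq_kernel (P Q : Subobject M) : P ⊓ Q = Subobject.mk (kernel.ι (infMap P Q)) := by
  have hP : kernel.ι (infMap P Q) ≫ cokernel.π P.arrow = 0 := by
    rw [← biprod.lift_fst (cokernel.π P.arrow) (cokernel.π Q.arrow), ← Category.assoc, kernel.condition, zero_comp]
  have hQ : kernel.ι (infMap P Q) ≫ cokernel.π Q.arrow = 0 := by
    rw [← biprod.lift_snd (cokernel.π P.arrow) (cokernel.π Q.arrow), ← Category.assoc, kernel.condition, zero_comp]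
  refine le_antisymm ?_ (le_inf ?_ ?_)
  · refine Subobject.le_mk_of_comm (kernel.lift _ (P ⊓ Q).arrow ?_) (kernel.lift_ι _ _ _)
    refine biprod.hom_ext _ _ ?_ ?_
    · rw [Category.assoc, biprod.lift_fst, zero_comp, ← Subobject.ofLE_arrow (inf_le_left : P ⊓ Q ≤ P), Category.assoc,
        cokernel.condition, comp_zero]
    · rw [Category.assoc, biprod.lift_snd, zero_comp, ← Subobject.ofLE_arrow (inf_le_right : P ⊓ Q ≤ Q), Category.assoc,
        cokernel.condition, comp_zero]
  · exact Subobject.mk_le_of_comm (Abelian.monoLift P.arrow _ hP) (Abelian.monoLift_comp _ _ _)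
  · exact Subobject.mk_le_of_comm (Abelian.monoLift Q.arrow _ hQ) (Abelian.monoLift_comp _ _ _)

theorem app_range_inf (P Q : Subobject M) (W : X.Opens) (s : Γ(M, W)) :
    (∃ t, (P ⊓ Q).arrow.app W t = s) ↔ (∃ t, P.arrow.app W t = s) ∧ (∃ t, Q.arrow.app W t = s) := by
  constructor
  · rintro ⟨t, rfl⟩
    exact ⟨⟨Scheme.Modules.Hom.app (Subobject.ofLE (P ⊓ Q) P inf_le_left) W t,
      ConcreteCategory.congr_hom (congrArg (fun f => Scheme.Modules.Hom.app f W) (Subobject.ofLE_arrow (inf_le_left : P ⊓ Q ≤ P))) t⟩,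
      ⟨Scheme.Modules.Hom.app (Subobject.ofLE (P ⊓ Q) Q inf_le_right) W t,
      ConcreteCategory.congr_hom (congrArg (fun f => Scheme.Modules.Hom.app f W) (Subobject.ofLE_arrow (inf_le_right : P ⊓ Q ≤ Q))) t⟩⟩
  · rintro ⟨⟨t, ht⟩, t', ht'⟩
    rw [inf_eq_kernel, app_range_mk]
    refine QCohLib.kernel_app_exact _ W s ?_
    have h1 : (cokernel.π P.arrow).app W s = 0 := by
      rw [← ht]
      show (P.arrow ≫ cokernel.π P.arrow).app W t = 0
      rw [cokernel.condition]
      rfl
    have h2 : (cokernel.π Q.arrow).app W s = 0 := by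
      rw [← ht']
      show (Q.arrow ≫ cokernel.π Q.arrow).app W t' = 0
      rw [cokernel.condition]
      rfl
    have hid : infMap P Q = cokernel.π P.arrow ≫ biprod.inl + cokernel.π Q.arrow ≫ biprod.inr := biprod.lift_eq
    rw [hid]
    show Scheme.Modules.Hom.app (biprod.inl : _ ⟶ cokernel P.arrow ⊞ cokernel Q.arrow) W ((cokernel.π P.arrow).app W s) +
      Scheme.Modules.Hom.app (biprod.inr : _ ⟶ cokernel P.arrow ⊞ cokernel Q.arrow) W ((cokernel.π Q.arrow).app W s) = 0
    rw [h1, h2, map_zero, map_zero, add_zero]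

theorem isQCoh_inf [Coh.IsQCoh M] (P Q : Subobject M) (hP : Coh.IsQCoh (P : X.Modules))
    (hQ : Coh.IsQCoh (Q : X.Modules)) : Coh.IsQCoh ((P ⊓ Q : Subobject M) : X.Modules) := by
  rw [inf_eq_kernel]
  refine DCohLib.isQCoh_of_iso' (Subobject.underlyingIso _).symm (QCohLib.isQCoh_image _ ‹_› ?_).1
  exact DCohLib.isQCoh_biprod' (QCohLib.isQCoh_image _ hP ‹_›).2 (QCohLib.isQCoh_image _ hQ ‹_›).2

/-- A map out of a quasi-coherent module is zero if it is so on the members of an affine cover. -/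
theorem eq_zero_of_cover {A B : X.Modules} [Coh.IsQCoh A] (f : A ⟶ B)
    (h : ∀ y : X, ∃ W : X.Opens, IsAffineOpen W ∧ y ∈ W ∧ ∀ t : Γ(A, W), f.app W t = 0) : f = 0 := by
  refine (eq_zero_iff_stalk _).2 fun y => LinearMap.ext fun z => ?_
  obtain ⟨W, hW, hy, hr⟩ := h y
  letI := Module.compHom (A.presheaf.stalk y) (X.presheaf.germ W y hy).hom
  haveI := FlatLocus.isLocalizedModule_germL A hW y hy
  obtain ⟨⟨t, r⟩, hz⟩ := IsLocalizedModule.surj (hW.primeIdealOf ⟨y, hy⟩).asIdeal.primeCompl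
    (FlatLocus.germL A W y hy) z
  letI := TopCat.Presheaf.algebra_section_stalk X.presheaf (⟨y, hy⟩ : W)
  haveI := hW.isLocalization_stalk ⟨y, hy⟩
  have hu : IsUnit (X.presheaf.germ W y hy (r : Γ(X, W))) :=
    IsLocalization.map_units (X.presheaf.stalk y) r
  refine hu.smul_left_cancel.1 (Eq.trans ?_ (smul_zero _).symm)
  rw [← map_smul]
  refine (congrArg (stalkLin f y)
    (show X.presheaf.germ W y hy (r : Γ(X, W)) • z = A.presheaf.germ W y hy t from hz)).trans ?_
  rw [stalkLin_germ]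
  exact (congrArg _ (hr t)).trans (map_zero _)

/-- Quasi-coherent submodules with the same sections on the members of an affine cover are equal. -/
theorem mk_eq_mk_of_cover {A B : X.Modules} [Coh.IsQCoh A] [Coh.IsQCoh B] (a : A ⟶ M) (b : B ⟶ M) [Mono a] [Mono b]
    (hcov : ∀ y : X, ∃ W : X.Opens, IsAffineOpen W ∧ y ∈ W ∧
      ∀ s : Γ(M, W), (∃ t, a.app W t = s) ↔ (∃ t, b.app W t = s)) :
    Subobject.mk a = Subobject.mk b := by
  have key : ∀ {A B : X.Modules} [Coh.IsQCoh A] (a : A ⟶ M) (b : B ⟶ M),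
      (∀ y : X, ∃ W : X.Opens, IsAffineOpen W ∧ y ∈ W ∧
        ∀ s : Γ(M, W), (∃ t, a.app W t = s) → (∃ t, b.app W t = s)) → a ≫ cokernel.π b = 0 := by
    intro A B _ a b h
    refine (eq_zero_iff_stalk _).2 fun y => LinearMap.ext fun z => ?_
    obtain ⟨W, hW, hy, hr⟩ := h y
    letI := Module.compHom (A.presheaf.stalk y) (X.presheaf.germ W y hy).hom
    haveI := FlatLocus.isLocalizedModule_germL A hW y hy
    obtain ⟨⟨t, r⟩, hz⟩ := IsLocalizedModule.surj (hW.primeIdealOf ⟨y, hy⟩).asIdeal.primeCompl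
      (FlatLocus.germL A W y hy) z
    letI := TopCat.Presheaf.algebra_section_stalk X.presheaf (⟨y, hy⟩ : W)
    haveI := hW.isLocalization_stalk ⟨y, hy⟩
    have hu : IsUnit (X.presheaf.germ W y hy (r : Γ(X, W))) :=
      IsLocalization.map_units (X.presheaf.stalk y) r
    refine hu.smul_left_cancel.1 (Eq.trans ?_ (smul_zero _).symm)
    rw [← map_smul]
    refine (congrArg (stalkLin (a ≫ cokernel.π b) y)
      (show X.presheaf.germ W y hy (r : Γ(X, W)) • z = A.presheaf.germ W y hy t from hz)).trans ?_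
    rw [stalkLin_germ]
    obtain ⟨t', ht'⟩ := hr _ ⟨t, rfl⟩
    refine (congrArg (fun q => (cokernel b).presheaf.germ W y hy ((cokernel.π b).app W q)) ht'.symm).trans ?_
    show (cokernel b).presheaf.germ W y hy ((b ≫ cokernel.π b).app W t') = 0
    rw [cokernel.condition]
    exact map_zero _
  let u := Abelian.monoLift b a (key a b fun y => by
    obtain ⟨W, hW, hy, h⟩ := hcov y
    exact ⟨W, hW, hy, fun s => (h s).1⟩)
  let v := Abelian.monoLift a b (key b a fun y => by
    obtain ⟨W, hW, hy, h⟩ := hcov y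
    exact ⟨W, hW, hy, fun s => (h s).2⟩)
  exact le_antisymm (Subobject.mk_le_mk_of_comm u (Abelian.monoLift_comp _ _ _))
    (Subobject.mk_le_mk_of_comm v (Abelian.monoLift_comp _ _ _))

end Groth.Agent.IdealMulLib
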